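import Mathlib.CategoryTheory.Comma.Over.Pullback
import Mathlib.CategoryTheory.Limits.Shapes.Pullback.IsPullback.Basic

/-! The mapping property relative to a morphism `j : U ⟶ S` under base change. -/

set_option autoImplicit false
universe v u

open CategoryTheory CategoryTheory.Limits

namespace NeronExtLib

variable {C : Type u} [Category.{v} C] [HasPullbacks C] {S U : C} (j : U ⟶ S)

theorem map_left_fst {Y N : Over S} (f : Y ⟶ N) :
    ((Over.pullback j).map f).left ≫ pullback.fst N.hom j = pullback.fst Y.hom j ≫ f.left :=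
  pullback.lift_fst _ _ _

theorem map_eq_iff {Y N : Over S} (f₁ f₂ : Y ⟶ N) :
    (Over.pullback j).map f₁ = (Over.pullback j).map f₂ ↔
      pullback.fst Y.hom j ≫ f₁.left = pullback.fst Y.hom j ≫ f₂.left := by
  refine ⟨fun h => by rw [← map_left_fst, ← map_left_fst, h], fun h => Over.OverMorphism.ext (pullback.hom_ext ?_ ?_)⟩
  · rw [map_left_fst, map_left_fst, h]
  · exact (Over.w ((Over.pullback j).map f₁)).trans (Over.w ((Over.pullback j).map f₂)).symm

theorem injective_iff (Y N : Over S) :
    Function.Injective (fun f : Y ⟶ N => (Over.pullback j).map f) ↔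
      ∀ f₁ f₂ : Y ⟶ N, pullback.fst Y.hom j ≫ f₁.left = pullback.fst Y.hom j ≫ f₂.left → f₁ = f₂ :=
  ⟨fun h f₁ f₂ h12 => h ((map_eq_iff j f₁ f₂).2 h12), fun h f₁ f₂ h12 => h f₁ f₂ ((map_eq_iff j f₁ f₂).1 h12)⟩

theorem surjective_iff (Y N : Over S) :
    Function.Surjective (fun f : Y ⟶ N => (Over.pullback j).map f) ↔
      ∀ h : pullback Y.hom j ⟶ N.left, h ≫ N.hom = pullback.fst Y.hom j ≫ Y.hom →
        ∃ f : Y ⟶ N, pullback.fst Y.hom j ≫ f.left = h := by
  refine ⟨fun hs h hh => ?_, fun hs φ => ?_⟩
  · obtain ⟨f, hf⟩ := hs (Over.homMk (pullback.lift h (pullback.snd Y.hom j) (by rw [hh, pullback.condition]))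
      (pullback.lift_snd _ _ _))
    refine ⟨f, ?_⟩
    rw [← map_left_fst, show (Over.pullback j).map f = _ from hf]
    exact pullback.lift_fst _ _ _
  · obtain ⟨f, hf⟩ := hs (φ.left ≫ pullback.fst N.hom j) (by
      rw [Category.assoc, pullback.condition, ← Category.assoc,
        show φ.left ≫ pullback.snd N.hom j = pullback.snd Y.hom j from Over.w φ, pullback.condition])
    refine ⟨f, Over.OverMorphism.ext (pullback.hom_ext ?_ ?_)⟩
    · exact (map_left_fst j f).trans hf
    · exact (Over.w ((Over.pullback j).map f)).trans (Over.w φ).symm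

variable {j} {S' U' : C} {g : S' ⟶ S} {j' : U' ⟶ S'} {t : U' ⟶ U} (sq : IsPullback t j' j g)
  (N : Over S) (Y' : Over S')

include sq in
theorem injective_baseChange
    (h : Function.Injective (fun f : Over.mk (Y'.hom ≫ g) ⟶ N => (Over.pullback j).map f)) :
    Function.Injective (fun f : Y' ⟶ (Over.pullback g).obj N => (Over.pullback j').map f) := by
  rw [injective_iff] at h ⊢
  intro f₁ f₂ h12
  have hp := (IsPullback.of_hasPullback Y'.hom j').flip.paste_horiz sq
  let e := hp.flip.isoPullback
  have he : e.inv ≫ pullback.fst Y'.hom j' = pullback.fst (Y'.hom ≫ g) j := hp.flip.isoPullback_inv_fst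
  let φ : (Y' ⟶ (Over.pullback g).obj N) → (Over.mk (Y'.hom ≫ g) ⟶ N) := fun f =>
    Over.homMk (f.left ≫ pullback.fst N.hom g) (by
      show _ = Y'.hom ≫ g
      rw [Category.assoc, pullback.condition, ← Category.assoc,
        show f.left ≫ pullback.snd N.hom g = Y'.hom from Over.w f])
  have := h (φ f₁) (φ f₂) (by
    show pullback.fst (Y'.hom ≫ g) j ≫ f₁.left ≫ pullback.fst N.hom g =
      pullback.fst (Y'.hom ≫ g) j ≫ f₂.left ≫ pullback.fst N.hom g
    rw [← he, Category.assoc, ← Category.assoc _ f₁.left, h12, Category.assoc, Category.assoc])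
  refine Over.OverMorphism.ext (pullback.hom_ext ?_ ?_)
  · exact congrArg CommaMorphism.left this
  · exact (Over.w f₁).trans (Over.w f₂).symm

include sq in
theorem surjective_baseChange
    (h : Function.Surjective (fun f : Over.mk (Y'.hom ≫ g) ⟶ N => (Over.pullback j).map f)) :
    Function.Surjective (fun f : Y' ⟶ (Over.pullback g).obj N => (Over.pullback j').map f) := by
  rw [surjective_iff] at h ⊢
  intro a ha
  have hp := (IsPullback.of_hasPullback Y'.hom j').flip.paste_horiz sq
  let e := hp.flip.isoPullback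
  have he : e.inv ≫ pullback.fst Y'.hom j' = pullback.fst (Y'.hom ≫ g) j := hp.flip.isoPullback_inv_fst
  obtain ⟨f, hf⟩ := h (e.inv ≫ a ≫ pullback.fst N.hom g) (by
    show _ = pullback.fst (Y'.hom ≫ g) j ≫ Y'.hom ≫ g
    rw [Category.assoc, Category.assoc, pullback.condition, ← Category.assoc a,
      show a ≫ pullback.snd N.hom g = pullback.fst Y'.hom j' ≫ Y'.hom from ha, ← he, Category.assoc, Category.assoc])
  refine ⟨Over.homMk (pullback.lift f.left Y'.hom (Over.w f)) (pullback.lift_snd _ _ _), pullback.hom_ext ?_ ?_⟩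
  · show (pullback.fst Y'.hom j' ≫ pullback.lift f.left Y'.hom _) ≫ pullback.fst N.hom g = a ≫ pullback.fst N.hom g
    rw [Category.assoc, pullback.lift_fst, ← cancel_epi e.inv, ← Category.assoc, he]
    exact hf
  · show (pullback.fst Y'.hom j' ≫ pullback.lift f.left Y'.hom _) ≫ pullback.snd N.hom g = a ≫ pullback.snd N.hom g
    rw [Category.assoc, pullback.lift_snd]
    exact ha.symm

end NeronExtLib
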