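import Groth.Agent.TorsExtLib.Neron
import Groth.Agent.WeilExtLib.Group
import Groth.Agent.WeilExtLib.Smooth
import Groth.Agent.S3249

/-! Extension of generic morphisms into proper group schemes over Dedekind domains. -/

set_option autoImplicit false
set_option linter.style.haveILetI false
set_option backward.isDefEq.respectTransparency false
set_option maxHeartbeats 1000000

universe u

open CategoryTheory CategoryTheory.Limits AlgebraicGeometry TopologicalSpace

noncomputable section

namespace NeronExtLib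

variable {R : Type u} [CommRing R] [IsDedekindDomain R]

/-- A minimal prime over the extension of a prime of a Dedekind domain has height at most one. -/
theorem height_le_one {A : Type u} [CommRing A] [IsNoetherianRing A] (φ : R →+* A) (p : Ideal R) [p.IsPrime]
    {Q : Ideal A} (hQ : Q ∈ (p.map φ).minimalPrimes) (hc : Q.comap φ = p) : Q.height ≤ 1 := by
  haveI : Q.IsPrime := hQ.1.1
  by_cases hp : p = ⊥
  · subst hp
    rw [Ideal.map_bot] at hQ
    exact (Ideal.height_le_card_of_mem_minimalPrimes_span (s := (∅ : Set A)) Set.finite_empty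
      (by rwa [Ideal.span_empty])).trans (by simp)
  obtain ⟨t, ht, ht0⟩ := Submodule.exists_mem_ne_zero_of_ne_bot hp
  have htQ : φ t ∈ Q := hQ.1.2 (Ideal.mem_map_of_mem φ ht)
  have hmin : Q ∈ (Ideal.span {φ t}).minimalPrimes := by
    refine ⟨⟨‹_›, (Ideal.span_singleton_le_iff_mem _).2 htQ⟩, fun Q' hQ' hle => hQ.2 ⟨hQ'.1, ?_⟩ hle⟩
    haveI : Q'.IsPrime := hQ'.1
    have h0 : Q'.comap φ ≠ ⊥ := fun h => ht0 (by
      have : t ∈ Q'.comap φ := hQ'.2 (Ideal.subset_span rfl)
      rwa [h, Ideal.mem_bot] at this)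
    haveI : (Q'.comap φ).IsMaximal := Ring.DimensionLEOne.maximalOfPrime h0 (Ideal.IsPrime.comap φ)
    rw [Ideal.map_le_iff_le_comap]
    exact ((‹(Q'.comap φ).IsMaximal›).eq_of_le ‹p.IsPrime›.ne_top ((Ideal.comap_mono hle).trans hc.le)).ge
  exact (Ideal.height_le_card_of_mem_minimalPrimes_span (Set.finite_singleton _) hmin).trans (by simp)

/-- In each fibre, points of codimension at most one are dense. -/
theorem exists_generisation {P : Scheme.{u}} [IsLocallyNoetherian P] (π : P ⟶ Spec (CommRingCat.of R)) (x : P) :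
    ∃ z : P, z ⤳ x ∧ π z = π x ∧ ringKrullDim (P.presheaf.stalk z) ≤ 1 := by
  obtain ⟨V, hV, hxV, -⟩ := exists_isAffineOpen_mem_and_subset (U := ⊤) (show x ∈ (⊤ : P.Opens) from trivial)
  obtain ⟨q, rfl⟩ : ∃ q, hV.fromSpec q = x := by
    have : x ∈ Set.range hV.fromSpec := by rw [hV.range_fromSpec]; exact hxV
    exact this
  haveI : IsNoetherianRing Γ(P, V) := IsLocallyNoetherian.component_noetherian ⟨V, hV⟩
  let φ := Spec.preimage (hV.fromSpec ≫ π)
  have hφ : ∀ Q, π (hV.fromSpec Q) = Spec.map φ Q := fun Q => by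
    rw [← Scheme.Hom.comp_apply, Spec.map_preimage]
  let p : Ideal R := q.asIdeal.comap φ.hom
  haveI : p.IsPrime := Ideal.IsPrime.comap φ.hom
  obtain ⟨Q, hQ, hle⟩ := Ideal.exists_minimalPrimes_le (I := p.map φ.hom) (J := q.asIdeal) Ideal.map_comap_le
  haveI : Q.IsPrime := hQ.1.1
  have hc : Q.comap φ.hom = p := le_antisymm (Ideal.comap_mono hle) (Ideal.map_le_iff_le_comap.1 hQ.1.2)
  let q' : PrimeSpectrum Γ(P, V) := ⟨Q, ‹_›⟩
  have hz : q' ⤳ q := (PrimeSpectrum.le_iff_specializes _ _).1 hle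
  refine ⟨hV.fromSpec q', hz.map hV.fromSpec.continuous, ?_, ?_⟩
  · rw [hφ, hφ]
    exact PrimeSpectrum.ext hc
  have hmem : hV.fromSpec q' ∈ V := by
    have : hV.fromSpec q' ∈ Set.range hV.fromSpec := ⟨_, rfl⟩
    rwa [hV.range_fromSpec] at this
  letI := TopCat.Presheaf.algebra_section_stalk P.presheaf ⟨hV.fromSpec q', hmem⟩
  haveI := hV.isLocalization_stalk' q' hmem
  rw [IsLocalization.AtPrime.ringKrullDim_eq_height q'.asIdeal (P.presheaf.stalk (hV.fromSpec q'))]
  exact WithBot.coe_le_coe.2 (height_le_one φ.hom p hQ hc)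

variable (N : Over (Spec (CommRingCat.of R))) [GrpObj N] [IsProper N.hom]

/-- Extension near a point. -/
theorem exists_local (Y : Over (Spec (CommRingCat.of R))) [Smooth Y.hom]
    (ψ : pullback Y.hom (Neron.genPt R) ⟶ N.left) (hψ : ψ ≫ N.hom = pullback.fst Y.hom (Neron.genPt R) ≫ Y.hom)
    (y : Y.left) :
    ∃ (P : Y.left.Opens) (g : P.toScheme ⟶ N.left), y ∈ P ∧ g ≫ N.hom = P.ι ≫ Y.hom ∧
      ∀ {T : Scheme.{u}} (a : T ⟶ P.toScheme) (b : T ⟶ pullback Y.hom (Neron.genPt R)),
        a ≫ P.ι = b ≫ pullback.fst Y.hom (Neron.genPt R) → a ≫ g = b ≫ ψ := by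
  haveI := WeilExtLib.isLocallyNoetherian_of_smooth Y.hom
  haveI := WeilExtLib.isReduced_of_smooth_dedekind Y.hom
  haveI : IsDomain (Y.left.presheaf.stalk y) :=
    haveI := WeilExtLib.isRegular_stalk_smooth Y.hom y
    CommAlgDim.isDomain_of_isRegularLocalRing _
  obtain ⟨U, hyU, -, -, hU⟩ := WeilExtLib.exists_integral_nhd y ⊤ trivial
  haveI := hU
  let π : U.toScheme ⟶ Spec (CommRingCat.of R) := U.ι ≫ Y.hom
  haveI : Smooth π := inferInstanceAs (Smooth (U.ι ≫ Y.hom))
  haveI : IsLocallyNoetherian U.toScheme := WeilExtLib.isLocallyNoetherian_of_smooth π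
  let η := genericPoint U.toScheme
  let σ : Spec U.toScheme.functionField ⟶ Spec (CommRingCat.of R) := U.toScheme.fromSpecStalk η ≫ π
  let φ := Spec.preimage σ
  have hinj : Function.Injective φ.hom := by
    let s : PrimeSpectrum R := ⟨⊥, Ideal.isPrime_bot⟩
    obtain ⟨η', h1, h2⟩ := (Flat.generalizingMap π) (a := η)
      (show s ⤳ π η from (PrimeSpectrum.le_iff_specializes _ _).1 bot_le)
    have h : π η = s := by
      rw [show η = η' from (((genericPoint_spec U.toScheme).specializes trivial).antisymm h1).eq]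
      exact h2
    have hσ : Spec.map φ (IsLocalRing.closedPoint U.toScheme.functionField) = s := by
      rw [Spec.map_preimage]
      change π (U.toScheme.fromSpecStalk η (IsLocalRing.closedPoint _)) = s
      rw [Scheme.fromSpecStalk_closedPoint]
      exact h
    have h3 : (IsLocalRing.maximalIdeal U.toScheme.functionField).comap φ.hom = ⊥ :=
      congrArg PrimeSpectrum.asIdeal hσ
    rw [IsLocalRing.maximalIdeal_eq_bot] at h3
    exact (RingHom.injective_iff_ker_eq_bot φ.hom).2 h3
  let l₀ : Spec U.toScheme.functionField ⟶ Spec (CommRingCat.of (FractionRing R)) :=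
    Spec.map (CommRingCat.ofHom (IsFractionRing.lift (K := FractionRing R) hinj))
  have hl₀ : l₀ ≫ Neron.genPt R = σ := by
    rw [show σ = Spec.map φ from (Spec.map_preimage σ).symm]
    show Spec.map _ ≫ Spec.map (CommRingCat.ofHom (algebraMap R (FractionRing R))) = _
    rw [← Spec.map_comp]
    congr 1
    ext r
    exact IsFractionRing.lift_algebraMap hinj r
  let l₁ : Spec U.toScheme.functionField ⟶ pullback Y.hom (Neron.genPt R) :=
    pullback.lift (U.toScheme.fromSpecStalk η ≫ U.ι) l₀ (by rw [hl₀, Category.assoc])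
  have hl₁ : l₁ ≫ pullback.fst Y.hom (Neron.genPt R) = U.toScheme.fromSpecStalk η ≫ U.ι := pullback.lift_fst _ _ _
  obtain ⟨W, hηW, fW, hfac, hover⟩ := spread_out_of_isGermInjective' π N.hom (x := η) (l₁ ≫ ψ)
    (by rw [Category.assoc, hψ, ← Category.assoc, hl₁, Category.assoc])
  have hW : Dense (W : Set U.toScheme) := W.2.dense ⟨η, hηW⟩
  obtain ⟨V, hWV, g', hg'p, hg'W, hV1⟩ := WeilExtLib.exists_extend_proper N.hom π
    (fun x _ => WeilExtLib.isRegular_stalk_smooth π x) W hW fW hover
  have hdense : ∀ x : U.toScheme, x ∈ closure ((V : Set U.toScheme) ∩ {z | π z = π x}) := fun x => by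
    obtain ⟨z, hzx, hz, hd⟩ := exists_generisation π x
    exact closure_mono (show {z} ⊆ (V : Set U.toScheme) ∩ {w | π w = π x} from
      Set.singleton_subset_iff.2 ⟨hV1 z hd, hz⟩) (specializes_iff_mem_closure.1 hzx)
  haveI : GrpObj (Over.mk N.hom) := ‹GrpObj N›
  obtain ⟨g, ⟨hg, hgV⟩, -⟩ := Groth.Agent.S3249.result π N.hom V hdense
    (fun x hx => WeilExtLib.two_le_of_not_le_one fun h => hx (hV1 x h)) g' hg'p
  refine ⟨U, g, hyU, hg, fun {T} a b hab => ?_⟩
  have hgη : U.toScheme.fromSpecStalk η ≫ g = l₁ ≫ ψ := by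
    have e : U.toScheme.fromSpecStalk η = W.fromSpecStalkOfMem η hηW ≫ U.toScheme.homOfLE hWV ≫ V.ι := by
      rw [Scheme.homOfLE_ι, Scheme.Opens.fromSpecStalkOfMem_ι]
    rw [e, Category.assoc, Category.assoc, hgV, hg'W]
    exact hfac.symm
  -- compare on the generic fibre of `U`
  let G := pullback π (Neron.genPt R)
  let j : G ⟶ pullback Y.hom (Neron.genPt R) :=
    pullback.lift (pullback.fst π (Neron.genPt R) ≫ U.ι) (pullback.snd π (Neron.genPt R))
      (by rw [Category.assoc]; exact pullback.condition)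
  let d : Spec U.toScheme.functionField ⟶ G := pullback.lift (U.toScheme.fromSpecStalk η) l₀ hl₀.symm
  haveI : Smooth (pullback.snd π (Neron.genPt R)) := MorphismProperty.pullback_snd (P := @Smooth) _ _ ‹Smooth π›
  haveI : IsReduced G := AlgSpLib.isReduced_of_smooth (pullback.snd π (Neron.genPt R))
  haveI : IsPreimmersion (Neron.genPt R) :=
    IsPreimmersion.of_isLocalization (nonZeroDivisors R)
  haveI : IsPreimmersion (pullback.fst π (Neron.genPt R)) := MorphismProperty.pullback_fst _ _ inferInstance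
  haveI : IsDominant d := by
    refine ⟨fun z => ?_⟩
    refine closure_mono (show {d (IsLocalRing.closedPoint _)} ⊆ Set.range d from Set.singleton_subset_iff.2 ⟨_, rfl⟩) ?_
    rw [← specializes_iff_mem_closure,
      ← (pullback.fst π (Neron.genPt R)).isEmbedding.isInducing.specializes_iff, ← Scheme.Hom.comp_apply,
      pullback.lift_fst, Scheme.fromSpecStalk_closedPoint]
    exact (genericPoint_spec U.toScheme).specializes trivial
  have key : pullback.fst π (Neron.genPt R) ≫ g = j ≫ ψ := by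
    refine ext_of_isDominant_of_isSeparated N.hom ?_ d ?_
    · rw [Category.assoc, hg, Category.assoc, hψ, ← Category.assoc j, pullback.lift_fst, Category.assoc]
    · rw [← Category.assoc, ← Category.assoc, pullback.lift_fst, hgη]
      congr 1
      refine pullback.hom_ext ?_ ?_
      · rw [hl₁, Category.assoc, pullback.lift_fst, pullback.lift_fst_assoc]
      · rw [pullback.lift_snd, Category.assoc, pullback.lift_snd, pullback.lift_snd]
  have hc : a ≫ π = (b ≫ pullback.snd Y.hom (Neron.genPt R)) ≫ Neron.genPt R := by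
    rw [Category.assoc, ← pullback.condition, ← Category.assoc a U.ι, hab, Category.assoc]
  have := congrArg (fun m => pullback.lift a (b ≫ pullback.snd Y.hom (Neron.genPt R)) hc ≫ m) key
  simp only [← Category.assoc, pullback.lift_fst] at this
  rw [this]
  congr 1
  refine pullback.hom_ext ?_ ?_
  · rw [Category.assoc, pullback.lift_fst, pullback.lift_fst_assoc, hab]
  · rw [Category.assoc, pullback.lift_snd, pullback.lift_snd]

/-- Extension of a morphism on the generic fibre. -/
theorem exists_extend (Y : Over (Spec (CommRingCat.of R))) [Smooth Y.hom]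
    (ψ : pullback Y.hom (Neron.genPt R) ⟶ N.left) (hψ : ψ ≫ N.hom = pullback.fst Y.hom (Neron.genPt R) ≫ Y.hom) :
    ∃ g : Y.left ⟶ N.left, g ≫ N.hom = Y.hom ∧ pullback.fst Y.hom (Neron.genPt R) ≫ g = ψ := by
  choose P g hyP hg hagree using exists_local N Y ψ hψ
  let 𝒰 := Y.left.openCoverOfIsOpenCover P (TopologicalSpace.IsOpenCover.mk
    (eq_top_iff.2 fun y _ => TopologicalSpace.Opens.mem_iSup.2 ⟨y, hyP y⟩))
  have hglue : ∀ i j : 𝒰.I₀, pullback.fst (𝒰.f i) (𝒰.f j) ≫ g i = pullback.snd (𝒰.f i) (𝒰.f j) ≫ g j := by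
    intro i j
    let a : pullback (𝒰.f i) (𝒰.f j) ⟶ (P i).toScheme := pullback.fst (𝒰.f i) (𝒰.f j)
    let b : pullback (𝒰.f i) (𝒰.f j) ⟶ (P j).toScheme := pullback.snd (𝒰.f i) (𝒰.f j)
    have hab : a ≫ (P i).ι = b ≫ (P j).ι := pullback.condition
    haveI : IsOpenImmersion (a ≫ (P i).ι) := inferInstanceAs (IsOpenImmersion (pullback.fst (𝒰.f i) (𝒰.f j) ≫ 𝒰.f i))
    let T : Over (Spec (CommRingCat.of R)) := Over.mk ((a ≫ (P i).ι) ≫ Y.hom)
    haveI : Flat T.hom := inferInstanceAs (Flat ((a ≫ (P i).ι) ≫ Y.hom))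
    haveI := TorsExtLib.dominant_fst_gen (A := T)
    refine TorsExtLib.hom_ext_of_dominant (f := a ≫ g i) (g := b ≫ g j) N.hom ?_
      (CartesianMonoidalCategory.fst T (TorsExtLib.gen R)).left ?_
    · rw [Category.assoc, Category.assoc, hg, hg, ← Category.assoc, hab, Category.assoc]
    · change pullback.fst T.hom (Neron.genPt R) ≫ a ≫ g i = pullback.fst T.hom (Neron.genPt R) ≫ b ≫ g j
      let c : pullback T.hom (Neron.genPt R) ⟶ pullback Y.hom (Neron.genPt R) :=
        pullback.lift (pullback.fst T.hom (Neron.genPt R) ≫ a ≫ (P i).ι) (pullback.snd T.hom (Neron.genPt R))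
          (by rw [Category.assoc]; exact pullback.condition)
      rw [← Category.assoc, ← Category.assoc, hagree i _ c (by rw [Category.assoc, pullback.lift_fst]),
        hagree j _ c (by rw [Category.assoc, pullback.lift_fst, hab])]
  refine ⟨𝒰.glueMorphisms g hglue, 𝒰.hom_ext _ _ fun i => ?_, ?_⟩
  · rw [Scheme.Cover.ι_glueMorphisms_assoc]
    exact hg i
  · refine Scheme.Cover.hom_ext (𝒰.pullback₁ (pullback.fst Y.hom (Neron.genPt R))) _ _ fun i => ?_
    let q := pullback.fst Y.hom (Neron.genPt R)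
    change pullback.fst q (𝒰.f i) ≫ q ≫ 𝒰.glueMorphisms g hglue = pullback.fst q (𝒰.f i) ≫ ψ
    rw [← Category.assoc, pullback.condition, Category.assoc, Scheme.Cover.ι_glueMorphisms]
    exact hagree i _ _ pullback.condition.symm

end NeronExtLib
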