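import Groth.Agent.NeronExtLib.BaseChange
import Groth.Agent.TorsExtLib.Schemes
import Groth.Agent.AlgSpLib.ReducedSmooth
import Groth.Agent.WeilExtLib.Basic
import Groth.Agent.BlowUpLib.RegBlow
import Mathlib.AlgebraicGeometry.Morphisms.UniversallyOpen

/-! The Néron lft property is local on a Dedekind scheme. -/

set_option autoImplicit false
set_option linter.style.haveILetI false
set_option backward.isDefEq.respectTransparency false
set_option maxHeartbeats 1000000

universe u

open CategoryTheory CategoryTheory.Limits AlgebraicGeometry TopologicalSpace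

noncomputable section

namespace NeronExtLib

variable {S : Scheme.{u}} [IsIntegral S] [IsNoetherian S] [S.IsSeparated]
  (G : Over S) [IsSeparated G.hom] [LocallyOfFiniteType G.hom] (Y : Over S) [Smooth Y.hom]

/-- the generic point -/
abbrev gp (S : Scheme.{u}) [IrreducibleSpace S] : Spec (S.presheaf.stalk (genericPoint S)) ⟶ S :=
  S.fromSpecStalk (genericPoint S)

omit [Smooth Y.hom] in
theorem mono_fst (s : S) : Mono (pullback.fst Y.hom (S.fromSpecStalk s)) :=
  MorphismProperty.pullback_fst (P := MorphismProperty.monomorphisms Scheme.{u}) _ _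
    (MorphismProperty.monomorphisms.infer_property _)

theorem dominant_fst_gp : IsSchemeTheoreticallyDominant (pullback.fst Y.hom (gp S)) := by
  haveI : IsDominant (gp S) := ⟨by
    intro x
    refine closure_mono (show {genericPoint S} ⊆ Set.range (gp S) from
      Set.singleton_subset_iff.2 ⟨_, Scheme.fromSpecStalk_closedPoint⟩) ?_
    exact specializes_iff_mem_closure.1 (genericPoint_specializes x)⟩
  haveI : IsSchemeTheoreticallyDominant (gp S) := IsSchemeTheoreticallyDominant.of_isDominant _
  exact IsSchemeTheoreticallyDominant.of_isPullback (IsPullback.of_hasPullback Y.hom (gp S)).flip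

/-- A germ extension at a point. -/
theorem exists_local_lft
    (hY : ∀ y : Y.left, IsRegularLocalRing (Y.left.presheaf.stalk y))
    (ψ : pullback Y.hom (gp S) ⟶ G.left)
    (hstalk : ∀ s : S, ∃ (g : pullback Y.hom (S.fromSpecStalk s) ⟶ G.left)
      (c : pullback Y.hom (gp S) ⟶ pullback Y.hom (S.fromSpecStalk s)),
      g ≫ G.hom = pullback.fst Y.hom (S.fromSpecStalk s) ≫ Y.hom ∧
      c ≫ pullback.fst Y.hom (S.fromSpecStalk s) = pullback.fst Y.hom (gp S) ∧ c ≫ g = ψ)
    (hψ : ψ ≫ G.hom = pullback.fst Y.hom (gp S) ≫ Y.hom) (y : Y.left) :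
    ∃ (U : Y.left.Opens) (f : U.toScheme ⟶ G.left), y ∈ U ∧ f ≫ G.hom = U.ι ≫ Y.hom ∧
      ∀ {T : Scheme.{u}} (a : T ⟶ U.toScheme) (b : T ⟶ pullback Y.hom (gp S)),
        a ≫ U.ι = b ≫ pullback.fst Y.hom (gp S) → a ≫ f = b ≫ ψ := by
  haveI : IsLocallyNoetherian Y.left := LocallyOfFiniteType.isLocallyNoetherian Y.hom
  obtain ⟨g, c, hg, hc, hcg⟩ := hstalk (Y.hom y)
  let L : Spec (Y.left.presheaf.stalk y) ⟶ pullback Y.hom (S.fromSpecStalk (Y.hom y)) :=
    pullback.lift (Y.left.fromSpecStalk y) (Spec.map (Y.hom.stalkMap y)) (Scheme.SpecMap_stalkMap_fromSpecStalk Y.hom).symm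
  have hL : L ≫ pullback.fst Y.hom (S.fromSpecStalk (Y.hom y)) = Y.left.fromSpecStalk y := pullback.lift_fst _ _ _
  obtain ⟨W, hyW, fW, hfac, hover⟩ := spread_out_of_isGermInjective' Y.hom G.hom (x := y) (L ≫ g)
    (by rw [Category.assoc, hg, ← Category.assoc, hL])
  haveI : IsDomain (Y.left.presheaf.stalk y) := haveI := hY y; CommAlgDim.isDomain_of_isRegularLocalRing _
  obtain ⟨U, hyU, hUW, -, hU⟩ := WeilExtLib.exists_integral_nhd y W hyW
  haveI := hU
  let π : U.toScheme ⟶ S := U.ι ≫ Y.hom
  haveI : Smooth π := inferInstanceAs (Smooth (U.ι ≫ Y.hom))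
  let f : U.toScheme ⟶ G.left := Y.left.homOfLE hUW ≫ fW
  have hf : f ≫ G.hom = U.ι ≫ Y.hom := by rw [Category.assoc, hover, Scheme.homOfLE_ι_assoc]
  refine ⟨U, f, hyU, hf, fun {T} a b hab => ?_⟩
  let P := pullback π (gp S)
  let j : P ⟶ pullback Y.hom (gp S) :=
    pullback.lift (pullback.fst π (gp S) ≫ U.ι) (pullback.snd π (gp S)) (by rw [Category.assoc]; exact pullback.condition)
  let η := genericPoint U.toScheme
  have hη : π η = genericPoint S := by
    obtain ⟨η', h1, h2⟩ := (Flat.generalizingMap π) (a := η) (genericPoint_specializes (π η))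
    rw [show η = η' from (((genericPoint_spec U.toScheme).specializes trivial).antisymm h1).eq]
    exact h2
  obtain ⟨z, hz, -⟩ := Scheme.exists_preimage_of_isPullback (IsPullback.of_hasPullback π (gp S)) η
    (IsLocalRing.closedPoint _) (hη.trans Scheme.fromSpecStalk_closedPoint.symm)
  haveI : Smooth (pullback.snd π (gp S)) := MorphismProperty.pullback_snd (P := @Smooth) _ _ ‹Smooth π›
  haveI : IsReduced (Spec (S.presheaf.stalk (genericPoint S))) := inferInstance
  haveI : IsReduced P := AlgSpLib.isReduced_of_smooth (pullback.snd π (gp S))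
  haveI : IsPreimmersion (pullback.fst π (gp S)) := MorphismProperty.pullback_fst _ _ inferInstance
  let d := P.fromSpecResidueField z
  haveI : IsDominant d := by
    refine ⟨fun x => ?_⟩
    refine closure_mono (show {z} ⊆ Set.range d by rw [Scheme.range_fromSpecResidueField]) ?_
    rw [← specializes_iff_mem_closure, ← (pullback.fst π (gp S)).isEmbedding.isInducing.specializes_iff, hz]
    exact (genericPoint_spec U.toScheme).specializes trivial
  have key : pullback.fst π (gp S) ≫ f = j ≫ ψ := by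
    refine ext_of_isDominant_of_isSeparated G.hom ?_ d ?_
    · rw [Category.assoc, hf, Category.assoc, hψ, ← Category.assoc j, pullback.lift_fst, Category.assoc]
    · let v := pullback.fst π (gp S) ≫ U.ι
      have hw : v z ⤳ y := by
        rw [show v z = U.ι η from congrArg U.ι hz]
        exact ((genericPoint_spec U.toScheme).specializes (y := ⟨y, hyU⟩) trivial).map U.ι.continuous
      let t : Spec (P.residueField z) ⟶ Spec (Y.left.presheaf.stalk y) :=
        Spec.map (v.residueFieldMap z) ≫ Spec.map (Y.left.residue (v z)) ≫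
          Spec.map (Y.left.presheaf.stalkSpecializes hw)
      have ht : t ≫ Y.left.fromSpecStalk y = d ≫ v := by
        simp only [t, Category.assoc, Scheme.SpecMap_stalkSpecializes_fromSpecStalk, d]
        exact Scheme.Hom.SpecMap_residueFieldMap_fromSpecResidueField _ _
      have e1 : d ≫ pullback.fst π (gp S) ≫ Y.left.homOfLE hUW = t ≫ W.fromSpecStalkOfMem y hyW := by
        rw [← cancel_mono W.ι, Category.assoc, Category.assoc, Category.assoc, Scheme.homOfLE_ι,
          Scheme.Opens.fromSpecStalkOfMem_ι, ht]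
      calc d ≫ pullback.fst π (gp S) ≫ f = (d ≫ pullback.fst π (gp S) ≫ Y.left.homOfLE hUW) ≫ fW := by
            simp only [f, Category.assoc]
        _ = (t ≫ L) ≫ g := by simp only [e1, Category.assoc, ← hfac]
        _ = (d ≫ j ≫ c) ≫ g := by
            congr 1
            haveI := mono_fst Y (Y.hom y)
            rw [← cancel_mono (pullback.fst Y.hom (S.fromSpecStalk (Y.hom y))), Category.assoc, hL, ht,
              Category.assoc, Category.assoc, hc, pullback.lift_fst]
        _ = d ≫ j ≫ ψ := by rw [Category.assoc, Category.assoc, hcg]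
  have hc' : a ≫ π = (b ≫ pullback.snd Y.hom (gp S)) ≫ gp S := by
    rw [Category.assoc, ← pullback.condition, ← Category.assoc a U.ι, hab, Category.assoc]
  have := congrArg (fun m => pullback.lift a (b ≫ pullback.snd Y.hom (gp S)) hc' ≫ m) key
  simp only [← Category.assoc, pullback.lift_fst] at this
  rw [this]
  congr 1
  refine pullback.hom_ext ?_ ?_
  · rw [Category.assoc, pullback.lift_fst, pullback.lift_fst_assoc, hab]
  · rw [Category.assoc, pullback.lift_snd, pullback.lift_snd]

theorem bijective_lft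
    (hY : ∀ y : Y.left, IsRegularLocalRing (Y.left.presheaf.stalk y))
    (hloc : ∀ s : S, ∀ ψ : pullback Y.hom (gp S) ⟶ G.left, ψ ≫ G.hom = pullback.fst Y.hom (gp S) ≫ Y.hom →
      ∃ (g : pullback Y.hom (S.fromSpecStalk s) ⟶ G.left)
      (c : pullback Y.hom (gp S) ⟶ pullback Y.hom (S.fromSpecStalk s)),
      g ≫ G.hom = pullback.fst Y.hom (S.fromSpecStalk s) ≫ Y.hom ∧
      c ≫ pullback.fst Y.hom (S.fromSpecStalk s) = pullback.fst Y.hom (gp S) ∧ c ≫ g = ψ) :
    Function.Bijective (fun g : Y ⟶ G => (Over.pullback (gp S)).map g) := by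
  haveI := dominant_fst_gp Y
  refine ⟨(injective_iff _ _ _).2 fun f₁ f₂ h => Over.OverMorphism.ext
    (TorsExtLib.hom_ext_of_dominant G.hom ((Over.w f₁).trans (Over.w f₂).symm) (pullback.fst Y.hom (gp S)) h),
    (surjective_iff _ _ _).2 fun ψ hψ => ?_⟩
  choose U f hyU hf hagree using exists_local_lft G Y hY ψ (fun s => hloc s ψ hψ) hψ
  let 𝒰 := Y.left.openCoverOfIsOpenCover U (TopologicalSpace.IsOpenCover.mk
    (eq_top_iff.2 fun y _ => TopologicalSpace.Opens.mem_iSup.2 ⟨y, hyU y⟩))
  have hglue : ∀ i k : 𝒰.I₀, pullback.fst (𝒰.f i) (𝒰.f k) ≫ f i = pullback.snd (𝒰.f i) (𝒰.f k) ≫ f k := by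
    intro i k
    let a : pullback (𝒰.f i) (𝒰.f k) ⟶ (U i).toScheme := pullback.fst (𝒰.f i) (𝒰.f k)
    let b : pullback (𝒰.f i) (𝒰.f k) ⟶ (U k).toScheme := pullback.snd (𝒰.f i) (𝒰.f k)
    have hab : a ≫ (U i).ι = b ≫ (U k).ι := pullback.condition
    haveI : IsOpenImmersion (a ≫ (U i).ι) := inferInstanceAs (IsOpenImmersion (pullback.fst (𝒰.f i) (𝒰.f k) ≫ 𝒰.f i))
    let T : Over S := Over.mk ((a ≫ (U i).ι) ≫ Y.hom)
    haveI : Smooth T.hom := inferInstanceAs (Smooth ((a ≫ (U i).ι) ≫ Y.hom))
    haveI := dominant_fst_gp T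
    refine TorsExtLib.hom_ext_of_dominant (f := a ≫ f i) (g := b ≫ f k) G.hom ?_ (pullback.fst T.hom (gp S)) ?_
    · rw [Category.assoc, Category.assoc, hf, hf, ← Category.assoc, hab, Category.assoc]
    · let q : pullback T.hom (gp S) ⟶ pullback Y.hom (gp S) :=
        pullback.lift (pullback.fst T.hom (gp S) ≫ a ≫ (U i).ι) (pullback.snd T.hom (gp S))
          (by rw [Category.assoc]; exact pullback.condition)
      rw [← Category.assoc, ← Category.assoc, hagree i _ q (by rw [Category.assoc, pullback.lift_fst]),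
        hagree k _ q (by rw [Category.assoc, pullback.lift_fst, hab])]
  refine ⟨Over.homMk (𝒰.glueMorphisms f hglue) (Scheme.Cover.hom_ext 𝒰 _ _ fun i => ?_), ?_⟩
  · rw [Scheme.Cover.ι_glueMorphisms_assoc]
    exact hf i
  · refine Scheme.Cover.hom_ext (𝒰.pullback₁ (pullback.fst Y.hom (gp S))) _ _ fun i => ?_
    let q := pullback.fst Y.hom (gp S)
    change pullback.fst q (𝒰.f i) ≫ q ≫ 𝒰.glueMorphisms f hglue = pullback.fst q (𝒰.f i) ≫ ψ
    rw [← Category.assoc, pullback.condition, Category.assoc, Scheme.Cover.ι_glueMorphisms]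
    exact hagree i _ _ pullback.condition.symm

end NeronExtLib
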